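import Cfsg.Agent.H237.RR.Cnt

/-!
# S3509, alternating groups, imprimitive subgroups: the bad permutations (helper237)
-/

set_option autoImplicit false

namespace Cfsg.Agent.H237.RR

open Equiv
open scoped Nat

variable {α : Type*} [Fintype α] [DecidableEq α] {a b : ℕ}

/-- `z` preserves the colouring `e ∘ s` -/
def Pres (e : α ≃ Fin b × Fin a) (z s : Perm α) : Prop :=
  ∀ u v, (e (s (z u))).1 = (e (s (z v))).1 ↔ (e (s u)).1 = (e (s v)).1

theorem Pres.pow {e : α ≃ Fin b × Fin a} {z s : Perm α} (h : Pres e z s) (k : ℕ) : Pres e (z ^ k) s := by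
  induction k with
  | zero => intro u v; rw [pow_zero]; rfl
  | succ k ih =>
    intro u v
    rw [pow_succ', Perm.mul_apply, Perm.mul_apply, h, ih]

theorem Pres.of_mem {e : α ≃ Fin b × Fin a} {L : Subgroup (Perm α)}
    (he : ∀ g ∈ L, ∀ u v, (e (g u)).1 = (e (g v)).1 ↔ (e u).1 = (e v).1) {z s : Perm α}
    (h : s * z * s⁻¹ ∈ L) : Pres e z s := by
  intro u v
  have h1 := he _ h (s u) (s v)
  simpa [Perm.mul_apply] using h1

theorem Pres.swap_iff {e : α ≃ Fin b × Fin a} {z s : Perm α} {y w : α} (hyw : (e y).1 = (e w).1) :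
    Pres e z (swap y w * s) ↔ Pres e z s := by
  have h1 : ∀ x, (e ((swap y w * s) x)).1 = (e (s x)).1 := by
    intro x
    rw [Perm.mul_apply, swap_apply_def]
    split_ifs with h2 h3
    · rw [h2, hyw]
    · rw [h3, hyw]
    · rfl
  unfold Pres
  simp only [h1]

theorem Pres.stay {e : α ≃ Fin b × Fin a} {z s : Perm α} (h : Pres e z s) {p : α}
    (hp : (e (s (z p))).1 = (e (s p)).1) (i : ℕ) : (e (s ((z ^ i) p))).1 = (e (s p)).1 := by
  induction i with
  | zero => rw [pow_zero]; rfl
  | succ i ih =>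
    rw [pow_succ, Perm.mul_apply, ← ih]
    exact ((h.pow i) (z p) p).2 hp

/-- a prime order permutation acts with orbits of length `r` -/
theorem inv_pow_pt {x : Perm α} {r : ℕ} (hr : r.Prime) (hx : x ^ r = 1) {d : ℕ} (hd : 0 < d) (hdr : d < r) :
    ∃ m, x ^ (d * m) = x := by
  have hc : d.Coprime r := Nat.coprime_comm.1 ((Nat.Prime.coprime_iff_not_dvd hr).2
    (fun h => absurd (Nat.le_of_dvd hd h) (by omega)))
  obtain ⟨m, -, hm⟩ := Nat.exists_mul_mod_eq_one_of_coprime hc hr.one_lt
  refine ⟨m, ?_⟩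
  rw [← Nat.div_add_mod (d * m) r, hm, pow_add, pow_mul, hx, one_pow, one_mul, pow_one]

theorem pow_fix {x : Perm α} {p : α} (h : x p = p) (m : ℕ) : (x ^ m) p = p := by
  induction m with
  | zero => rfl
  | succ m ih => rw [pow_succ, Perm.mul_apply, h, ih]

theorem inj_pts {x : Perm α} {r : ℕ} (hr : r.Prime) (hx : x ^ r = 1) {p : α} (hp : x p ≠ p) :
    Function.Injective fun i : Fin r => (x ^ (i : ℕ)) p := by
  have key : ∀ i j : ℕ, i < j → j < r → (x ^ i) p ≠ (x ^ j) p := by
    intro i j hij hj h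
    have h1 : (x ^ (j - i)) p = p := by
      have h2 : x ^ j = x ^ i * x ^ (j - i) := by rw [← pow_add]; congr 1; omega
      rw [h2, Perm.mul_apply] at h
      exact ((x ^ i).injective h).symm
    obtain ⟨m, hm⟩ := inv_pow_pt hr hx (d := j - i) (by omega) (by omega)
    apply hp
    have h3 := pow_fix h1 m
    rw [← pow_mul, hm] at h3
    exact h3
  intro i j hij
  rcases lt_trichotomy (i : ℕ) (j : ℕ) with h | h | h
  · exact absurd hij (key i j h j.2)
  · exact Fin.ext h
  · exact absurd hij.symm (key j i h i.2)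

/-- the block of `p` is fixed -/
theorem N_stay (e : α ≃ Fin b × Fin a) {x : Perm α} {r : ℕ} (hr : r.Prime) (hx : x ^ r = 1) {p : α} (hp : x p ≠ p) :
    N (fun s => Pres e x s ∧ (e (s (x p))).1 = (e (s p)).1) * b ^ r ≤ b * (Fintype.card α)! := by
  refine (Nat.mul_le_mul_right _ (N_mono ?_)).trans (N_same e hr.ne_zero (inj_pts hr hx hp))
  rintro s ⟨h, h1⟩ i j
  rw [h.stay h1, h.stay h1]

/-- the block of `p` is moved: `r ≤ b` -/
theorem moved_le {e : α ≃ Fin b × Fin a} {x : Perm α} {r : ℕ} (hr : r.Prime) (hx : x ^ r = 1) {p : α} {s : Perm α}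
    (h : Pres e x s) (hp : (e (s (x p))).1 ≠ (e (s p)).1) : r ≤ b := by
  have hinj : Function.Injective fun i : Fin r => (e (s ((x ^ (i : ℕ)) p))).1 := by
    have key : ∀ i j : ℕ, i < j → j < r → (e (s ((x ^ i) p))).1 ≠ (e (s ((x ^ j) p))).1 := by
      intro i j hij hj h0
      have h2 : x ^ j = x ^ i * x ^ (j - i) := by rw [← pow_add]; congr 1; omega
      rw [h2, Perm.mul_apply] at h0
      have h3 : (e (s ((x ^ (j - i)) p))).1 = (e (s p)).1 := (((h.pow i) _ _).1 h0).symm
      obtain ⟨m, hm⟩ := inv_pow_pt hr hx (d := j - i) (by omega) (by omega)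
      have h4 := (h.pow (j - i)).stay h3 m
      rw [← pow_mul, hm] at h4
      exact hp h4
    intro i j hij
    rcases lt_trichotomy (i : ℕ) (j : ℕ) with h | h | h
    · exact absurd hij (key i j h j.2)
    · exact Fin.ext h
    · exact absurd hij.symm (key j i h i.2)
  have := Fintype.card_le_of_injective _ hinj
  rwa [Fintype.card_fin, Fintype.card_fin] at this

/-- size of a colour class -/
theorem class_card (e : α ≃ Fin b × Fin a) (s : Perm α) (p : α) :
    (Finset.univ.filter fun q => (e (s q)).1 = (e (s p)).1).card = a := by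
  have h1 : (Finset.univ.filter fun q => (e (s q)).1 = (e (s p)).1).card = (Finset.univ : Finset (Fin a)).card := by
    symm
    refine Finset.card_bij (fun i _ => s.symm (e.symm ((e (s p)).1, i))) ?_ ?_ ?_
    · intro i _
      rw [Finset.mem_filter]
      refine ⟨Finset.mem_univ _, ?_⟩
      rw [Equiv.apply_symm_apply, Equiv.apply_symm_apply]
    · intro i _ j _ h
      have := e.symm.injective (s.symm.injective h)
      exact (Prod.mk.injEq _ _ _ _ ▸ this).2
    · intro q hq
      rw [Finset.mem_filter] at hq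
      refine ⟨(e (s q)).2, Finset.mem_univ _, ?_⟩
      rw [← hq.2]
      simp
  rw [h1, Finset.card_univ, Fintype.card_fin]

/-- the block of `p` is moved -/
theorem N_moved (e : α ≃ Fin b × Fin a) {x : Perm α} {p : α} (hp : x p ≠ p) (ha : 2 ≤ a) {m : ℕ}
    (hm : Fintype.card α = m + 4) :
    N (fun s => Pres e x s ∧ (e (s (x p))).1 ≠ (e (s p)).1) * ((m + 3) * (m + 1)) ≤
      (b - 1) * (a * (a - 1)) * (Fintype.card α)! := by
  classical
  have hn : Fintype.card α = b * a := by
    rw [Fintype.card_congr e, Fintype.card_prod, Fintype.card_fin, Fintype.card_fin]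
  have hb : 1 ≤ b := by
    rcases Nat.eq_zero_or_pos b with h0 | h0
    · rw [h0] at hn; omega
    · exact h0
  set T : α → Perm α → Prop := fun q s => (e (s p)).1 = (e (s q)).1 ∧ (e (s (x p))).1 = (e (s (x q))).1 ∧
    (e (s p)).1 ≠ (e (s (x p))).1 with hT
  set A : Finset α := (Finset.univ.erase p).erase (x p) with hA
  have hAc : A.card = m + 2 := by
    rw [hA, Finset.card_erase_of_mem, Finset.card_erase_of_mem (Finset.mem_univ _), Finset.card_univ, hm]
    · omega
    · rw [Finset.mem_erase]; exact ⟨hp, Finset.mem_univ _⟩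
  set D := (Fintype.card α).descFactorial 4 with hD
  set K := (b * b - b) * ((a * a - a) * (a * a - a)) with hK
  have hD' : D = (m + 4) * (m + 3) * (m + 2) * (m + 1) := by
    rw [hD, hm]
    simp only [Nat.descFactorial_succ, Nat.descFactorial_zero]
    have e1 : m + 4 - 3 = m + 1 := by omega
    have e2 : m + 4 - 2 = m + 2 := by omega
    have e3 : m + 4 - 1 = m + 3 := by omega
    rw [e1, e2, e3]
    simp
    ring
  have hD0 : 0 < D := by rw [hD']; positivity
  have hTq : ∀ q ∈ A, N (T q) ≤ K * (Fintype.card α)! / D := by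
    intro q hq
    rw [hA, Finset.mem_erase, Finset.mem_erase] at hq
    rw [Nat.le_div_iff_mul_le hD0]
    by_cases h1 : x q = p
    · rw [N_false, zero_mul]
      · exact Nat.zero_le _
      · rintro s ⟨-, h3, h4⟩
        rw [h1] at h3
        exact h4 h3.symm
    by_cases h2 : x q = q
    · rw [N_false, zero_mul]
      · exact Nat.zero_le _
      · rintro s ⟨h3, h4, h5⟩
        rw [h2, ← h3] at h4
        exact h5 h4.symm
    exact N_two e (y0 := p) (y1 := q) (y2 := x p) (y3 := x q) (Ne.symm hq.2.1) (Ne.symm hp) (Ne.symm h1) hq.1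
      (Ne.symm h2) (fun h => hq.2.1 (x.injective h).symm)
  have h1 := Finset.card_mul_le_card_mul (s := Finset.univ.filter fun s : Perm α => Pres e x s ∧
      (e (s (x p))).1 ≠ (e (s p)).1) (t := A) (r := fun s q => T q s) (m := a - 1)
      (n := K * (Fintype.card α)! / D) ?_ ?_
  · have h2 : N (fun s => Pres e x s ∧ (e (s (x p))).1 ≠ (e (s p)).1) = (Finset.univ.filter fun s : Perm α => Pres e x s ∧
      (e (s (x p))).1 ≠ (e (s p)).1).card := by
      unfold N
      congr
    rw [← h2, hAc] at h1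
    set M := N (fun s => Pres e x s ∧ (e (s (x p))).1 ≠ (e (s p)).1) with hM
    have h3 : M * (a - 1) * D ≤ (m + 2) * (K * (Fintype.card α)!) := by
      calc M * (a - 1) * D ≤ (m + 2) * (K * (Fintype.card α)! / D) * D := Nat.mul_le_mul_right _ h1
        _ = (m + 2) * (K * (Fintype.card α)! / D * D) := by ring
        _ ≤ _ := Nat.mul_le_mul_left _ (Nat.div_mul_le_self _ _)
    obtain ⟨A', rfl⟩ : ∃ A', a = A' + 2 := ⟨a - 2, by omega⟩
    obtain ⟨B', rfl⟩ : ∃ B', b = B' + 1 := ⟨b - 1, by omega⟩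
    have e1 : A' + 2 - 1 = A' + 1 := by omega
    have e2 : B' + 1 - 1 = B' := by omega
    have e3 : (A' + 2) * (A' + 2) - (A' + 2) = (A' + 2) * (A' + 1) := by
      rw [← Nat.mul_sub_one]; rfl
    have e4 : (B' + 1) * (B' + 1) - (B' + 1) = (B' + 1) * B' := by
      rw [← Nat.mul_sub_one]; rfl
    rw [hK, e3, e4, hD', e1] at h3
    rw [e1, e2]
    have e5 : m + 4 = (B' + 1) * (A' + 2) := by rw [← hm, hn]
    have h4 : ((A' + 1) * (m + 4) * (m + 2)) * (M * ((m + 3) * (m + 1))) ≤
        ((A' + 1) * (m + 4) * (m + 2)) * (B' * ((A' + 2) * (A' + 1)) * (Fintype.card α)!) := by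
      calc ((A' + 1) * (m + 4) * (m + 2)) * (M * ((m + 3) * (m + 1)))
          = M * (A' + 1) * ((m + 4) * (m + 3) * (m + 2) * (m + 1)) := by ring
        _ ≤ _ := h3
        _ = ((A' + 1) * ((B' + 1) * (A' + 2)) * (m + 2)) * (B' * ((A' + 2) * (A' + 1)) * (Fintype.card α)!) := by ring
        _ = _ := by rw [← e5]
    exact Nat.le_of_mul_le_mul_left h4 (by positivity)
  · -- many `q`
    intro s hs
    rw [Finset.mem_filter] at hs
    obtain ⟨-, h3, h4⟩ := hs
    have h5 : ((Finset.univ.filter fun q => (e (s q)).1 = (e (s p)).1).erase p).card = a - 1 := by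
      rw [Finset.card_erase_of_mem, class_card]
      rw [Finset.mem_filter]
      exact ⟨Finset.mem_univ _, rfl⟩
    rw [← h5]
    refine Finset.card_le_card fun q hq => ?_
    rw [Finset.mem_erase, Finset.mem_filter] at hq
    rw [Finset.mem_bipartiteAbove, hA, Finset.mem_erase, Finset.mem_erase]
    refine ⟨⟨?_, hq.1, Finset.mem_univ _⟩, hq.2.2.symm, ?_, Ne.symm h4⟩
    · rintro rfl
      exact h4 hq.2.2
    · exact (h3 p q).2 hq.2.2.symm
  · intro q hq
    refine le_trans ?_ (hTq q hq)
    refine Finset.card_le_card fun s hs => ?_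
    have hs2 : T q s := by
      simp only [Finset.bipartiteBelow, Finset.mem_filter] at hs
      exact hs.2
    simp only [Finset.mem_filter, Finset.mem_univ, true_and]
    exact hs2

end Cfsg.Agent.H237.RR
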