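import Cfsg.Agent.H237.RR.Bad

/-!
# S3509, alternating groups: imprimitive subgroups (helper237)

`reg_imprim` : `L` transitive and imprimitive on at least nine points, `g` a permutation: some even conjugate of `⟨g⟩` meets
`L` trivially (union bound over the primes dividing the order of `g`).
-/

set_option autoImplicit false

namespace Cfsg.Agent.H237.RR

open Equiv
open scoped Nat Pointwise

/-! ### Sums -/

theorem sum_third (S : Finset ℕ) (hS : ∀ r ∈ S, 2 ≤ r) {b : ℕ} (hb : 3 ≤ b) :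
    ∑ r ∈ S, (1 / (b : ℚ)) ^ (r - 1) < 1 / 2 := by
  have h1 : ∑ r ∈ S, (1 / (b : ℚ)) ^ (r - 1) ≤ ∑ r ∈ S, (1 / 3 : ℚ) ^ (r - 1) := by
    refine Finset.sum_le_sum fun r _ => ?_
    refine pow_le_pow_left₀ (by positivity) ?_ _
    have : (3 : ℚ) ≤ b := by exact_mod_cast hb
    exact one_div_le_one_div_of_le (by norm_num) this
  have h2 : ∑ r ∈ S, (1 / 3 : ℚ) ^ (r - 1) ≤ ∑ r ∈ Finset.Ico 2 (S.sup id + 1 + 2), (1 / 3 : ℚ) ^ (r - 1) := by
    refine Finset.sum_le_sum_of_subset_of_nonneg ?_ fun r _ _ => by positivity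
    intro r hr
    rw [Finset.mem_Ico]
    have h3 : r ≤ S.sup id := Finset.le_sup (f := id) hr
    exact ⟨hS r hr, by omega⟩
  have h3 : ∀ M : ℕ, ∑ r ∈ Finset.Ico 2 (M + 2), (1 / 3 : ℚ) ^ (r - 1) = 1 / 2 - (1 / 2) * (1 / 3) ^ M := by
    intro M
    induction M with
    | zero => simp
    | succ M ih =>
      have e : M + 1 + 2 = M + 2 + 1 := by ring
      rw [e, Finset.sum_Ico_succ_top (by omega), ih]
      have e2 : M + 2 - 1 = M + 1 := by omega
      rw [e2]
      ring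
  rw [h3] at h2
  have h4 : (0 : ℚ) < (1 / 2) * (1 / 3) ^ (S.sup id + 1) := by positivity
  linarith

theorem sum_odd (S : Finset ℕ) (hS : ∀ r ∈ S, r % 2 = 1 ∧ 3 ≤ r) :
    ∑ r ∈ S, (1 / 2 : ℚ) ^ (r - 1) < 1 / 3 := by
  have h2 : ∑ r ∈ S, (1 / 2 : ℚ) ^ (r - 1) ≤
      ∑ r ∈ (Finset.range (S.sup id + 1)).image (fun k => 2 * k + 3), (1 / 2 : ℚ) ^ (r - 1) := by
    refine Finset.sum_le_sum_of_subset_of_nonneg ?_ fun r _ _ => by positivity
    intro r hr
    rw [Finset.mem_image]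
    have h3 : r ≤ S.sup id := Finset.le_sup (f := id) hr
    obtain ⟨h4, h5⟩ := hS r hr
    exact ⟨(r - 3) / 2, Finset.mem_range.2 (by omega), by omega⟩
  rw [Finset.sum_image (fun i _ j _ h => by omega)] at h2
  have h3 : ∀ M : ℕ, ∑ k ∈ Finset.range M, (1 / 2 : ℚ) ^ (2 * k + 3 - 1) = 1 / 3 - (1 / 3) * (1 / 4) ^ M := by
    intro M
    induction M with
    | zero => simp
    | succ M ih =>
      rw [Finset.sum_range_succ, ih]
      have e2 : 2 * M + 3 - 1 = 2 * (M + 1) := by omega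
      rw [e2, pow_mul]
      norm_num
      ring
  rw [h3] at h2
  have h4 : (0 : ℚ) < (1 / 3) * (1 / 4) ^ (S.sup id + 1) := by positivity
  linarith

theorem card_primes (S : Finset ℕ) (hS : ∀ r ∈ S, r.Prime) (b : ℕ) (hb : 1 ≤ b) :
    (S.filter (· ≤ b)).card ≤ (b + 1) / 2 := by
  rw [← Finset.card_range ((b + 1) / 2)]
  refine Finset.card_le_card_of_injOn (fun r => (r - 1) / 2) ?_ ?_
  · intro r hr
    rw [Finset.mem_coe, Finset.mem_filter] at hr
    rw [Finset.mem_coe, Finset.mem_range]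
    have := (hS r hr.1).two_le
    show (r - 1) / 2 < (b + 1) / 2
    omega
  · intro r hr r' hr' h
    rw [Finset.mem_coe, Finset.mem_filter] at hr hr'
    have h1 := (hS r hr.1).two_le
    have h2 := (hS r' hr'.1).two_le
    have h3 := (hS r hr.1).eq_two_or_odd
    have h4 := (hS r' hr'.1).eq_two_or_odd
    have h5 : (r - 1) / 2 = (r' - 1) / 2 := h
    omega

theorem mu_bound {a b m : ℕ} (ha : 2 ≤ a) (hb : 3 ≤ b) (hn : b * a = m + 4) (h9 : 9 ≤ b * a) :
    ((b - 1 : ℕ) * (a * (a - 1 : ℕ)) : ℚ) / ((m + 3) * (m + 1)) * (b + 1) ≤ 1 := by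
  have h0 : (0 : ℚ) < ((m : ℚ) + 3) * (m + 1) := by positivity
  rw [div_mul_eq_mul_div, div_le_one h0]
  obtain ⟨A, rfl⟩ : ∃ A, a = A + 2 := ⟨a - 2, by omega⟩
  obtain ⟨B, rfl⟩ : ∃ B, b = B + 3 := ⟨b - 3, by omega⟩
  have e1 : A + 2 - 1 = A + 1 := by omega
  have e2 : B + 3 - 1 = B + 2 := by omega
  rw [e1, e2]
  have hm : (m : ℚ) = (B + 3) * (A + 2) - 4 := by
    have : ((B + 3 : ℕ) * (A + 2 : ℕ) : ℚ) = (m + 4 : ℕ) := by exact_mod_cast hn
    push_cast at this
    linarith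
  rw [hm]
  push_cast
  have hA : (0 : ℚ) ≤ A := by positivity
  rcases Nat.eq_zero_or_pos B with h1 | h1
  · subst h1
    have h2 : 1 ≤ A := by omega
    have h3 : (1 : ℚ) ≤ A := by exact_mod_cast h2
    push_cast
    nlinarith [mul_nonneg hA (sub_nonneg.2 h3)]
  · have h3 : (1 : ℚ) ≤ B := by exact_mod_cast h1
    obtain ⟨C, hC⟩ : ∃ C : ℚ, (B : ℚ) = C + 1 := ⟨B - 1, by ring⟩
    have hC0 : 0 ≤ C := by linarith
    rw [hC]
    nlinarith [mul_nonneg hA hC0, mul_nonneg hC0 hC0, mul_nonneg hA (mul_nonneg hC0 hC0), mul_nonneg hA hA]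

variable {α : Type*} [Fintype α] [DecidableEq α] {a b : ℕ}

theorem card_eq (e : α ≃ Fin b × Fin a) : Fintype.card α = b * a := by
  rw [Fintype.card_congr e, Fintype.card_prod, Fintype.card_fin, Fintype.card_fin]

/-- the bound for one prime -/
theorem N_bad (e : α ≃ Fin b × Fin a) (ha : 2 ≤ a) (hb : 2 ≤ b) {m : ℕ} (hm : Fintype.card α = m + 4)
    {x : Perm α} {r : ℕ} (hr : r.Prime) (hx : x ^ r = 1) {p : α} (hp : x p ≠ p) :
    (N (Pres e x) : ℚ) ≤ (Fintype.card α)! * ((1 / (b : ℚ)) ^ (r - 1) +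
      if r ≤ b then ((b - 1 : ℕ) * (a * (a - 1 : ℕ)) : ℚ) / ((m + 3) * (m + 1)) else 0) := by
  have h1 : N (Pres e x) ≤ N (fun s => Pres e x s ∧ (e (s (x p))).1 = (e (s p)).1) +
      N (fun s => Pres e x s ∧ (e (s (x p))).1 ≠ (e (s p)).1) := by
    refine N_or fun s hs => ?_
    by_cases h : (e (s (x p))).1 = (e (s p)).1
    · exact Or.inl ⟨hs, h⟩
    · exact Or.inr ⟨hs, h⟩
  set N1 := N (fun s => Pres e x s ∧ (e (s (x p))).1 = (e (s p)).1) with hN1
  set N2 := N (fun s => Pres e x s ∧ (e (s (x p))).1 ≠ (e (s p)).1) with hN2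
  have h1' : (N (Pres e x) : ℚ) ≤ N1 + N2 := by exact_mod_cast h1
  have hb0 : (0 : ℚ) < b := by exact_mod_cast (by omega : 0 < b)
  have h2 : (N1 : ℚ) ≤ (Fintype.card α)! * (1 / (b : ℚ)) ^ (r - 1) := by
    have h3 := N_stay e hr hx hp
    rw [← hN1] at h3
    have h4 : (N1 : ℚ) * b ^ r ≤ b * (Fintype.card α)! := by exact_mod_cast h3
    have e1 : (b : ℚ) ^ r = b ^ (r - 1) * b := by
      rw [← pow_succ]
      congr 1
      have := hr.one_le
      omega
    rw [e1] at h4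
    rw [one_div, inv_pow, ← div_eq_mul_inv, le_div_iff₀ (by positivity)]
    have h5 : (N1 : ℚ) * b ^ (r - 1) * b ≤ (Fintype.card α)! * b := by linarith
    exact le_of_mul_le_mul_right h5 hb0
  have h3 : (N2 : ℚ) ≤ (Fintype.card α)! *
      if r ≤ b then ((b - 1 : ℕ) * (a * (a - 1 : ℕ)) : ℚ) / ((m + 3) * (m + 1)) else 0 := by
    split_ifs with hrb
    · have h4 := N_moved e hp ha hm
      rw [← hN2] at h4
      have h5 : (N2 : ℚ) * (((m : ℚ) + 3) * (m + 1)) ≤
          ((b - 1 : ℕ) * (a * (a - 1 : ℕ)) : ℚ) * (Fintype.card α)! := by exact_mod_cast h4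
      have h0 : (0 : ℚ) < ((m : ℚ) + 3) * (m + 1) := by positivity
      rw [mul_div_assoc', le_div_iff₀ h0]
      linarith
    · rw [hN2, N_false]
      · simp
      · rintro s ⟨h4, h5⟩
        exact hrb (moved_le hr hx h4 h5)
  rw [mul_add]
  linarith

theorem fin2a : ∀ c d f : Fin 2, (d = f ↔ c = f) → d = c := by decide

theorem fin2b : ∀ c1 c2 c3 c4 : Fin 2, (c2 = c4 ↔ c1 = c3) → (c2 = c3 ↔ c1 = c4) →
    ((c1 = c3 ∧ c2 = c4 ∧ c1 ≠ c2) ∨ (c1 = c4 ∧ c2 = c3 ∧ c1 ≠ c2)) ∨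
      ((c1 = c2 ∧ c3 = c4 ∧ c1 ≠ c3) ∨ (c1 = c2 ∧ c1 = c3 ∧ c1 = c4)) := by decide

theorem inj4 {β : Type*} {y0 y1 y2 y3 : β} (h01 : y0 ≠ y1) (h02 : y0 ≠ y2) (h03 : y0 ≠ y3) (h12 : y1 ≠ y2)
    (h13 : y1 ≠ y3) (h23 : y2 ≠ y3) : Function.Injective ![y0, y1, y2, y3] := by
  intro i j hij
  fin_cases i <;> fin_cases j <;> simp_all

/-- two blocks, an involution -/
theorem N_bad_two (e : α ≃ Fin 2 × Fin a) (ha : 5 ≤ a) {x : Perm α} (hx : x ^ 2 = 1) {p : α} (hp : x p ≠ p) :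
    N (Pres e x) * 3 < 2 * (Fintype.card α)! := by
  have hn := card_eq e
  have hf0 : 0 < (Fintype.card α)! := Nat.factorial_pos _
  have hxx : ∀ y, x (x y) = y := fun y => by
    rw [pow_two] at hx
    exact Equiv.congr_fun hx y
  by_cases hf : ∃ f, x f = f
  · obtain ⟨f, hf⟩ := hf
    have h1 : N (Pres e x) ≤ N (fun s => Pres e x s ∧ (e (s (x p))).1 = (e (s p)).1) := by
      refine N_mono fun s hs => ⟨hs, ?_⟩
      have h2 := hs p f
      rw [hf] at h2
      exact fin2a _ _ _ h2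
    have h2 := N_stay e Nat.prime_two hx hp
    omega
  · push Not at hf
    obtain ⟨q, hq⟩ : ∃ q : α, q ∉ ({p, x p} : Finset α) := by
      by_contra hcon
      push Not at hcon
      have h1 : (Finset.univ : Finset α) ⊆ {p, x p} := fun y _ => hcon y
      have h2 := Finset.card_le_card h1
      have h3 : ({p, x p} : Finset α).card ≤ 2 := Finset.card_le_two
      rw [Finset.card_univ] at h2
      omega
    rw [Finset.mem_insert, Finset.mem_singleton, not_or] at hq
    obtain ⟨hqp, hqx⟩ := hq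
    have hxq1 : x q ≠ p := fun h => hqx (by rw [← h, hxx])
    have hxq2 : x q ≠ x p := fun h => hqp (x.injective h)
    have hxq := hf q
    have u1 := N_two e (y0 := p) (y1 := q) (y2 := x p) (y3 := x q) (Ne.symm hqp) (Ne.symm hp) (Ne.symm hxq1) hqx
      (Ne.symm hxq) (Ne.symm hxq2)
    have u2 := N_two e (y0 := p) (y1 := x q) (y2 := x p) (y3 := q) (Ne.symm hxq1) (Ne.symm hp) (Ne.symm hqp) hxq2
      hxq (Ne.symm hqx)
    have u3 := N_two e (y0 := p) (y1 := x p) (y2 := q) (y3 := x q) (Ne.symm hp) (Ne.symm hqp) (Ne.symm hxq1)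
      (Ne.symm hqx) (Ne.symm hxq2) (Ne.symm hxq)
    have hv : Function.Injective ![p, x p, q, x q] := inj4 (Ne.symm hp) (Ne.symm hqp) (Ne.symm hxq1)
      (Ne.symm hqx) (Ne.symm hxq2) (Ne.symm hxq)
    have u4 := N_same e (k := 4) (by norm_num) hv
    set U1 := N (fun s : Perm α => (e (s p)).1 = (e (s q)).1 ∧ (e (s (x p))).1 = (e (s (x q))).1 ∧
      (e (s p)).1 ≠ (e (s (x p))).1) with hU1
    set U2 := N (fun s : Perm α => (e (s p)).1 = (e (s (x q))).1 ∧ (e (s (x p))).1 = (e (s q)).1 ∧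
      (e (s p)).1 ≠ (e (s (x p))).1) with hU2
    set U3 := N (fun s : Perm α => (e (s p)).1 = (e (s (x p))).1 ∧ (e (s q)).1 = (e (s (x q))).1 ∧
      (e (s p)).1 ≠ (e (s q)).1) with hU3
    set U4 := N (fun s : Perm α => ∀ i j, (e (s (![p, x p, q, x q] i))).1 = (e (s (![p, x p, q, x q] j))).1) with hU4
    have h1 : N (Pres e x) ≤ (U1 + U2) + (U3 + U4) := by
      have k1 : N (Pres e x) ≤ N (fun s : Perm α => ((e (s p)).1 = (e (s q)).1 ∧ (e (s (x p))).1 = (e (s (x q))).1 ∧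
          (e (s p)).1 ≠ (e (s (x p))).1) ∨ ((e (s p)).1 = (e (s (x q))).1 ∧ (e (s (x p))).1 = (e (s q)).1 ∧
          (e (s p)).1 ≠ (e (s (x p))).1)) + N (fun s : Perm α => ((e (s p)).1 = (e (s (x p))).1 ∧
          (e (s q)).1 = (e (s (x q))).1 ∧ (e (s p)).1 ≠ (e (s q)).1) ∨
          ((e (s p)).1 = (e (s (x p))).1 ∧ (e (s p)).1 = (e (s q)).1 ∧ (e (s p)).1 = (e (s (x q))).1)) := by
        refine N_or fun s hs => ?_
        have h2 := hs p q
        have h3 := hs p (x q)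
        rw [hxx] at h3
        exact fin2b _ _ _ _ h2 h3
      refine k1.trans (Nat.add_le_add (N_or fun s hs => hs) (N_or fun s hs => ?_))
      rcases hs with hs | ⟨h2, h3, h4⟩
      · exact Or.inl hs
      · right
        intro i j
        have key : ∀ i, (e (s (![p, x p, q, x q] i))).1 = (e (s p)).1 := by
          intro i
          fin_cases i
          · rfl
          · exact h2.symm
          · exact h3.symm
          · exact h4.symm
        rw [key, key]
    obtain ⟨A, rfl⟩ : ∃ A, a = A + 5 := ⟨a - 5, by omega⟩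
    set F := (Fintype.card α)! with hF
    have e1 : (A + 5) * (A + 5) - (A + 5) = (A + 5) * (A + 4) := by
      rw [← Nat.mul_sub_one]; rfl
    have e2 : (Fintype.card α).descFactorial 4 = (2 * A + 10) * (2 * A + 9) * (2 * A + 8) * (2 * A + 7) := by
      rw [hn]
      simp only [Nat.descFactorial_succ, Nat.descFactorial_zero]
      have e1 : 2 * (A + 5) - 3 = 2 * A + 7 := by omega
      have e2 : 2 * (A + 5) - 2 = 2 * A + 8 := by omega
      have e3 : 2 * (A + 5) - 1 = 2 * A + 9 := by omega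
      rw [e1, e2, e3]
      simp
      ring
    rw [e1, e2] at u1 u2 u3
    clear_value U1 U2 U3 U4 F
    obtain ⟨X, hX⟩ : ∃ X, X = (A + 5) * (A + 4) := ⟨_, rfl⟩
    obtain ⟨Y, hY⟩ : ∃ Y, Y = (2 * A + 9) * (2 * A + 7) := ⟨_, rfl⟩
    have e3 : (2 * A + 10) * (2 * A + 9) * (2 * A + 8) * (2 * A + 7) = 4 * X * Y := by
      rw [hX, hY]; ring
    have hX0 : 0 < X := by rw [hX]; positivity
    have hXY : 36 * X < 13 * Y := by
      rw [hX, hY]
      have e4 : 13 * ((2 * A + 9) * (2 * A + 7)) = 36 * ((A + 5) * (A + 4)) + (16 * (A * A) + 92 * A + 99) := by ring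
      omega
    rw [← hX, e3] at u1 u2 u3
    have e5 : 2 * 2 - 2 = 2 := rfl
    rw [e5] at u1 u2 u3
    have h2 : 2 * X * (2 * ((U1 + U2 + U3) * Y)) ≤ 2 * X * (3 * X * F) := by
      calc 2 * X * (2 * ((U1 + U2 + U3) * Y)) = U1 * (4 * X * Y) + U2 * (4 * X * Y) + U3 * (4 * X * Y) := by ring
        _ ≤ 2 * (X * X) * F + 2 * (X * X) * F + 2 * (X * X) * F := Nat.add_le_add (Nat.add_le_add u1 u2) u3
        _ = _ := by ring
    have h3 : 2 * ((U1 + U2 + U3) * Y) ≤ 3 * X * F := Nat.le_of_mul_le_mul_left h2 (by positivity)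
    have h5 : 24 * (U1 + U2 + U3) < 13 * F := by
      by_contra hcon
      push Not at hcon
      have h6 : 13 * F * Y ≤ 24 * (U1 + U2 + U3) * Y := Nat.mul_le_mul_right _ hcon
      have h7 : 24 * (U1 + U2 + U3) * Y = 12 * (2 * ((U1 + U2 + U3) * Y)) := by ring
      have h8 : 12 * (3 * X * F) = 36 * X * F := by ring
      have h9 : 36 * X * F < 13 * Y * F := Nat.mul_lt_mul_of_pos_right hXY hf0
      have h10 : 13 * F * Y = 13 * Y * F := by ring
      omega
    omega

/-- the union bound -/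
theorem exists_good_all (e : α ≃ Fin b × Fin a) (ha : 2 ≤ a) (hb : 2 ≤ b) (h9 : 9 ≤ Fintype.card α)
    (S : Finset ℕ) (hS : ∀ r ∈ S, r.Prime) (x : ℕ → Perm α) (hx : ∀ r ∈ S, x r ^ r = 1) (hx1 : ∀ r ∈ S, x r ≠ 1) :
    ∃ s, ∀ r ∈ S, ¬ Pres e (x r) s := by
  have hn := card_eq e
  have hp : ∀ r ∈ S, ∃ p, x r p ≠ p := by
    intro r hr
    by_contra hcon
    push Not at hcon
    exact hx1 r hr (Equiv.ext hcon)
  have hf0 : (0 : ℚ) < (Fintype.card α)! := by exact_mod_cast Nat.factorial_pos _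
  obtain ⟨m, hm⟩ : ∃ m, Fintype.card α = m + 4 := ⟨Fintype.card α - 4, by omega⟩
  apply exists_good
  suffices h : (∑ r ∈ S, (N (Pres e (x r)) : ℚ)) < (Fintype.card α)! by exact_mod_cast h
  rcases Nat.lt_or_ge 2 b with hb3 | hb3
  · -- at least three blocks
    have h1 : ∑ r ∈ S, (N (Pres e (x r)) : ℚ) ≤ ∑ r ∈ S, (Fintype.card α)! * ((1 / (b : ℚ)) ^ (r - 1) +
      if r ≤ b then ((b - 1 : ℕ) * (a * (a - 1 : ℕ)) : ℚ) / ((m + 3) * (m + 1)) else 0) := by
      refine Finset.sum_le_sum fun r hr => ?_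
      obtain ⟨p, hp⟩ := hp r hr
      exact N_bad e ha hb hm (hS r hr) (hx r hr) hp
    rw [← Finset.mul_sum, Finset.sum_add_distrib] at h1
    have h2 := sum_third S (fun r hr => (hS r hr).two_le) (b := b) hb3
    have h3 : (∑ r ∈ S, if r ≤ b then ((b - 1 : ℕ) * (a * (a - 1 : ℕ)) : ℚ) / ((m + 3) * (m + 1)) else 0) ≤ 1 / 2 := by
      rw [← Finset.sum_filter, Finset.sum_const, nsmul_eq_mul]
      have h4 := card_primes S hS b (by omega)
      have h5 : ((S.filter (· ≤ b)).card : ℚ) ≤ (b + 1) / 2 := by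
        have h6 : (S.filter (· ≤ b)).card * 2 ≤ b + 1 := by omega
        have h7 : ((S.filter (· ≤ b)).card : ℚ) * 2 ≤ b + 1 := by exact_mod_cast h6
        linarith
      have h6 := mu_bound ha hb3 (hn.symm.trans hm) (by rw [← hn]; exact h9)
      have h7 : (0 : ℚ) ≤ ((b - 1 : ℕ) * (a * (a - 1 : ℕ)) : ℚ) / ((m + 3) * (m + 1)) := by positivity
      nlinarith
    have h4 : (Fintype.card α)! * ((∑ r ∈ S, (1 / (b : ℚ)) ^ (r - 1)) +
        ∑ r ∈ S, if r ≤ b then ((b - 1 : ℕ) * (a * (a - 1 : ℕ)) : ℚ) / ((m + 3) * (m + 1)) else 0) <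
        (Fintype.card α)! * 1 := mul_lt_mul_of_pos_left (by linarith) hf0
    rw [mul_one] at h4
    exact lt_of_le_of_lt h1 h4
  · -- two blocks
    obtain rfl : b = 2 := by omega
    have ha5 : 5 ≤ a := by omega
    have h1 : ∀ r ∈ S.erase 2, (N (Pres e (x r)) : ℚ) ≤ (Fintype.card α)! * (1 / 2 : ℚ) ^ (r - 1) := by
      intro r hr
      rw [Finset.mem_erase] at hr
      obtain ⟨p, hp⟩ := hp r hr.2
      have h2 := N_bad e ha hb hm (hS r hr.2) (hx r hr.2) hp
      have h3 : ¬ r ≤ 2 := by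
        have := (hS r hr.2).two_le
        have := hr.1
        omega
      rw [if_neg h3, add_zero] at h2
      exact_mod_cast h2
    have h2 : ∑ r ∈ S.erase 2, (N (Pres e (x r)) : ℚ) < (Fintype.card α)! * (1 / 3) := by
      refine lt_of_le_of_lt (Finset.sum_le_sum h1) ?_
      rw [← Finset.mul_sum]
      refine mul_lt_mul_of_pos_left (sum_odd _ ?_) hf0
      intro r hr
      rw [Finset.mem_erase] at hr
      have h3 := (hS r hr.2).eq_two_or_odd
      have h4 := (hS r hr.2).two_le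
      have := hr.1
      omega
    by_cases h2S : 2 ∈ S
    · rw [← Finset.add_sum_erase S _ h2S]
      obtain ⟨p, hp⟩ := hp 2 h2S
      have h3 := N_bad_two e ha5 (hx 2 h2S) hp
      have h4 : (N (Pres e (x 2)) : ℚ) * 3 < 2 * (Fintype.card α)! := by exact_mod_cast h3
      linarith
    · rw [Finset.erase_eq_of_notMem h2S] at h2
      linarith

/-- every nontrivial element of `⟨g⟩` has the elements of prime order among its powers -/
theorem exists_pow {G : Type*} [Group G] [Finite G] {g z : G} (hz : z ∈ Subgroup.zpowers g) (hz1 : z ≠ 1) :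
    ∃ r ∈ (orderOf g).primeFactors, ∃ k : ℕ, z ^ k = g ^ (orderOf g / r) := by
  obtain ⟨r, hr, hrz⟩ := Nat.exists_prime_and_dvd (n := orderOf z) (by rwa [Ne, orderOf_eq_one_iff])
  have hzg : orderOf z ∣ orderOf g := by
    rw [← Nat.card_zpowers, ← Nat.card_zpowers g]
    exact Subgroup.card_dvd_of_le (by rwa [Subgroup.zpowers_le])
  have hN0 : orderOf g ≠ 0 := (orderOf_pos g).ne'
  have hZ0 : 0 < orderOf z := orderOf_pos z
  have hrg : r ∣ orderOf g := hrz.trans hzg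
  refine ⟨r, Nat.mem_primeFactors.2 ⟨hr, hrg, hN0⟩, ?_⟩
  obtain ⟨j, hj⟩ : ∃ j : ℕ, g ^ j = z := by
    obtain ⟨j, hj⟩ := (mem_powers_iff_mem_zpowers.2 hz)
    exact ⟨j, hj⟩
  obtain ⟨M, hM⟩ := hrz
  obtain ⟨N', hN'⟩ := hrg
  have hr0 := hr.pos
  have hN'2 : orderOf g / r = N' := by rw [hN', Nat.mul_div_cancel_left _ hr0]
  rw [hN'2]
  -- `y = z ^ M` has order `r`
  have hy : (z ^ M) ^ r = 1 := by rw [← pow_mul, mul_comm, ← hM, pow_orderOf_eq_one]
  have hy1 : z ^ M ≠ 1 := by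
    intro h
    have h1 := Nat.le_of_dvd (by
      rcases Nat.eq_zero_or_pos M with h0 | h0
      · rw [h0, mul_zero] at hM; omega
      · exact h0) (orderOf_dvd_of_pow_eq_one h)
    rw [hM] at h1
    have h2 := hr.two_le
    have h3 : 0 < M := by
      rcases Nat.eq_zero_or_pos M with h0 | h0
      · rw [h0, mul_zero] at hM; omega
      · exact h0
    nlinarith
  have h1 : N' ∣ j * M := by
    have h2 : g ^ (j * M * r) = 1 := by rw [pow_mul, pow_mul, hj, hy]
    have h3 := orderOf_dvd_of_pow_eq_one h2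
    rw [hN', mul_comm (j * M) r] at h3
    exact Nat.dvd_of_mul_dvd_mul_left hr0 h3
  obtain ⟨t, ht⟩ := h1
  have hx : (g ^ N') ^ r = 1 := by rw [← pow_mul, mul_comm, ← hN', pow_orderOf_eq_one]
  have hyt : z ^ M = (g ^ N') ^ t := by rw [← pow_mul, ← ht, pow_mul, hj]
  have hrt : ¬ r ∣ t := by
    rintro ⟨u, rfl⟩
    apply hy1
    rw [hyt, pow_mul, hx, one_pow]
  have hc : t.Coprime r := Nat.coprime_comm.1 ((Nat.Prime.coprime_iff_not_dvd hr).2 hrt)
  obtain ⟨u, -, hu⟩ := Nat.exists_mul_mod_eq_one_of_coprime hc hr.one_lt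
  refine ⟨M * u, ?_⟩
  rw [pow_mul, hyt, ← pow_mul, ← Nat.div_add_mod (t * u) r, hu, pow_add, pow_mul, hx, one_pow, one_mul, pow_one]

/-- the block system of a transitive imprimitive group (helper548) -/
theorem exists_blocks {G X : Type*} [Group G] [MulAction G X] [Finite X] [MulAction.IsPretransitive G X] [Nonempty X]
    (h : ¬ MulAction.IsPreprimitive G X) :
    ∃ (k m : ℕ) (e : X ≃ Fin k × Fin m), 2 ≤ k ∧ 2 ≤ m ∧
      ∀ (g : G) (x y : X), (e (g • x)).1 = (e (g • y)).1 ↔ (e x).1 = (e y).1 := by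
  classical
  have h1 : ∃ B : Set X, MulAction.IsBlock G B ∧ ¬ MulAction.IsTrivialBlock B := by
    by_contra hcon
    push Not at hcon
    exact h ⟨fun {B} hB => hcon B hB⟩
  obtain ⟨B, hB, hBt⟩ := h1
  have hB1 : ¬ B.Subsingleton := fun h => hBt (Or.inl h)
  have hB2 : B ≠ Set.univ := fun h => hBt (Or.inr h)
  rw [Set.not_subsingleton_iff] at hB1
  obtain ⟨b0, hb0⟩ := hB1.nonempty
  choose r hr using fun x : X => MulAction.exists_smul_eq G b0 x
  let c : X → Set X := fun x => r x • B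
  have hcx : ∀ x, x ∈ c x := fun x => by
    have : r x • b0 ∈ r x • B := Set.smul_mem_smul_set hb0
    rwa [hr] at this
  have huniq : ∀ (g : G) (x : X), x ∈ g • B → g • B = c x := fun g x hx =>
    hB.smul_eq_smul_of_nonempty ⟨x, hx, hcx x⟩
  have hcy : ∀ x y, c x = c y ↔ y ∈ c x := by
    intro x y
    constructor
    · intro h2
      rw [h2]
      exact hcx y
    · intro h2
      exact huniq _ _ h2
  have hcg : ∀ (g : G) (x : X), c (g • x) = g • c x := by
    intro g x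
    have h2 : g • x ∈ (g * r x) • B := by
      rw [mul_smul]
      exact Set.smul_mem_smul_set (hcx x)
    rw [← huniq _ _ h2, mul_smul]
  -- fibres
  let cc : X → Set.range c := fun x => ⟨c x, x, rfl⟩
  have hcc : ∀ x y, cc x = cc y ↔ c x = c y := fun x y => Subtype.ext_iff
  have hfib : ∀ s : Set.range c, Nat.card {x : X // cc x = s} = Nat.card B := by
    rintro ⟨_, y, rfl⟩
    have h2 : ∀ x, (cc x = cc y) ↔ x ∈ c y := by
      intro x
      rw [hcc, ← hcy]
      exact eq_comm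
    have h3 : Nat.card {x : X // cc x = cc y} = Nat.card {x : X // x ∈ c y} :=
      Nat.card_congr (Equiv.subtypeEquivRight h2)
    refine Eq.trans h3 ?_
    show Nat.card (r y • B : Set X) = Nat.card B
    exact Nat.card_congr (Equiv.Set.image _ B (MulAction.injective (r y))).symm
  have hfin : Finite (Set.range c) := inferInstance
  have eB : (B : Type _) ≃ Fin (Nat.card B) := Finite.equivFin _
  have ek : Set.range c ≃ Fin (Nat.card (Set.range c)) := Finite.equivFin _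
  have hf2 : ∀ s : Set.range c, Nonempty ({x : X // cc x = s} ≃ Fin (Nat.card B)) := by
    intro s
    rw [← hfib s]
    exact ⟨Finite.equivFin _⟩
  let e : X ≃ Fin (Nat.card (Set.range c)) × Fin (Nat.card B) :=
    ((Equiv.sigmaFiberEquiv cc).symm.trans (Equiv.sigmaCongrRight fun s => (hf2 s).some)).trans
        ((Equiv.sigmaEquivProd _ _).trans (Equiv.prodCongr ek (Equiv.refl _)))
  have he : ∀ x, (e x).1 = ek (cc x) := fun x => rfl
  refine ⟨_, _, e, ?_, ?_, ?_⟩
  · obtain ⟨z, hz⟩ := (Set.ne_univ_iff_exists_notMem B).1 hB2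
    have : Nontrivial (Set.range c) := by
      refine ⟨⟨⟨c b0, b0, rfl⟩, ⟨c z, z, rfl⟩, fun h2 => ?_⟩⟩
      have h3 : z ∈ c b0 := (hcy _ _).1 (Subtype.ext_iff.1 h2)
      have h4 : (1 : G) • B = c b0 := huniq 1 b0 (by rwa [one_smul])
      rw [one_smul] at h4
      rw [← h4] at h3
      exact hz h3
    exact Finite.one_lt_card
  · have : Nontrivial B := hB1.coe_sort
    exact Finite.one_lt_card
  · intro g x y
    rw [he, he, he, he, ek.apply_eq_iff_eq, ek.apply_eq_iff_eq, hcc, hcc, hcg, hcg]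
    exact (MulAction.injective g).eq_iff

/-- **box I** of S3509 -/
theorem reg_imprim {α : Type*} [Fintype α] [DecidableEq α] (h9 : 9 ≤ Fintype.card α) (L : Subgroup (Equiv.Perm α))
    (hT : MulAction.IsPretransitive L α) (hP : ¬ MulAction.IsPreprimitive L α) (g : Equiv.Perm α) :
    ∃ s ∈ alternatingGroup α, ∀ z ∈ Subgroup.zpowers g, s * z * s⁻¹ ∈ L → z = 1 := by
  have hne : Nonempty α := Fintype.card_pos_iff.1 (by omega)
  obtain ⟨b, a, e, hb, ha, he⟩ := exists_blocks hP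
  have he' : ∀ g ∈ L, ∀ u v, (e (g u)).1 = (e (g v)).1 ↔ (e u).1 = (e v).1 := fun g hg u v => he ⟨g, hg⟩ u v
  obtain ⟨s, hs⟩ := exists_good_all e ha hb h9 (orderOf g).primeFactors
    (fun r hr => Nat.prime_of_mem_primeFactors hr) (fun r => g ^ (orderOf g / r))
    (fun r hr => by
      show (g ^ (orderOf g / r)) ^ r = 1
      rw [← pow_mul, Nat.div_mul_cancel (Nat.dvd_of_mem_primeFactors hr), pow_orderOf_eq_one])
    (fun r hr h => by
      have h1 := Nat.le_of_dvd (Nat.div_pos (Nat.le_of_dvd (orderOf_pos g) (Nat.dvd_of_mem_primeFactors hr))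
        (Nat.prime_of_mem_primeFactors hr).pos) (orderOf_dvd_of_pow_eq_one h)
      have h2 := Nat.div_lt_self (orderOf_pos g) (Nat.prime_of_mem_primeFactors hr).one_lt
      omega)
  have key : ∀ s : Perm α, (∀ r ∈ (orderOf g).primeFactors, ¬ Pres e (g ^ (orderOf g / r)) s) →
      ∀ z ∈ Subgroup.zpowers g, s * z * s⁻¹ ∈ L → z = 1 := by
    intro s hs z hz hzL
    by_contra hz1
    obtain ⟨r, hr, k, hk⟩ := exists_pow hz hz1
    apply hs r hr
    rw [← hk]
    exact (Pres.of_mem he' hzL).pow k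
  by_cases hA : s ∈ alternatingGroup α
  · exact ⟨s, hA, key s hs⟩
  · set y := e.symm (⟨0, by omega⟩, ⟨0, by omega⟩) with hy
    set w := e.symm (⟨0, by omega⟩, ⟨1, by omega⟩) with hw
    have hyw : (e y).1 = (e w).1 := by
      rw [hy, hw, Equiv.apply_symm_apply, Equiv.apply_symm_apply]
    have hne : y ≠ w := by
      intro h
      have h1 := e.symm.injective h
      simp at h1
    refine ⟨swap y w * s, ?_, key _ ?_⟩
    · rw [Perm.mem_alternatingGroup] at hA ⊢
      rw [map_mul, Perm.sign_swap hne]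
      rcases Int.units_eq_one_or (Perm.sign s) with h | h
      · exact absurd h hA
      · rw [h]; rfl
    · intro r hr
      rw [Pres.swap_iff hyw]
      exact hs r hr

end Cfsg.Agent.H237.RR
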